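/-
helper50: project S4504 (helper79), module S4504-[B-FIT]: Fitting's lemma for indecomposable representations.
-/
import Mathlib
import Cfsg.Prelude.Def_Blocks
import Cfsg.Prelude.Def_Classical
import Cfsg.Agent.Lib.Helper79.ModP.Defs

set_option autoImplicit false

open Cfsg Cfsg.Agent.Lib.Helper79.ModP

universe u

namespace Cfsg.Agent.Lib.Helper50.S4504

theorem commute_pow_of_commute {F G V : Type*} [Field F] [Group G] [AddCommGroup V] [Module F V]
    {ρ : Representation F G V} (α : Module.End F V) (hα : ∀ g : G, α ∘ₗ ρ g = ρ g ∘ₗ α) (n : ℕ) (g : G) :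
    (α ^ n) ∘ₗ ρ g = ρ g ∘ₗ (α ^ n) := by
  have h : Commute α (ρ g) := hα g
  exact (h.pow_left n)

theorem indec_isUnit_or {F G V : Type*} [Field F] [Group G] [AddCommGroup V] [Module F V]
    [FiniteDimensional F V] {ρ : Representation F G V} (h : Indec ρ)
    (α β : Module.End F V) (hα : ∀ g : G, α ∘ₗ ρ g = ρ g ∘ₗ α) (hab : α + β = 1) :
    IsUnit α ∨ IsUnit β := by
  obtain ⟨n, hn, hn1⟩ := ((LinearMap.eventually_isCompl_ker_pow_range_pow α).and
    (Filter.eventually_ge_atTop 1)).exists
  have hcomm : ∀ g : G, ∀ v : V, (α ^ n) (ρ g v) = ρ g ((α ^ n) v) := by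
    intro g v
    have := commute_pow_of_commute α hα n g
    exact LinearMap.congr_fun this v
  have hker : Stable ρ (LinearMap.ker (α ^ n)) := by
    intro g v hv
    rw [LinearMap.mem_ker] at hv ⊢
    rw [hcomm, hv, map_zero]
  have hrange : Stable ρ (LinearMap.range (α ^ n)) := by
    intro g v hv
    obtain ⟨w, rfl⟩ := hv
    exact ⟨ρ g w, hcomm g w⟩
  rcases h.2 _ _ hker hrange hn with h1 | h1
  · left
    rw [LinearMap.isUnit_iff_ker_eq_bot, eq_bot_iff]
    intro v hv
    rw [LinearMap.mem_ker] at hv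
    have : v ∈ LinearMap.ker (α ^ n) := by
      rw [LinearMap.mem_ker]
      obtain ⟨m, rfl⟩ : ∃ m, n = m + 1 := ⟨n - 1, by omega⟩
      rw [pow_succ, Module.End.mul_apply, hv, map_zero]
    rwa [h1] at this
  · right
    have hnil : IsNilpotent α := by
      refine ⟨n, ?_⟩
      ext v
      have : (α ^ n) v ∈ LinearMap.range (α ^ n) := ⟨v, rfl⟩
      rw [h1, Submodule.mem_bot] at this
      simpa using this
    have hβ : β = 1 - α := by rw [← hab]; abel
    rw [hβ]
    exact hnil.isUnit_one_sub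

end Cfsg.Agent.Lib.Helper50.S4504
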