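/-
helper50: project S4504 (helper79), module S4504-[B-FORM]: an invariant non-degenerate form restricts
non-degenerately to a size-3 Jordan block that splits off with no other size-3 block.
-/
import Mathlib
import Cfsg.Prelude.Def_Blocks
import Cfsg.Prelude.Def_Classical
import Cfsg.Agent.Lib.Helper79.ModP.Defs

set_option autoImplicit false

open Cfsg Cfsg.Agent.Lib.Helper79.ModP

universe u

namespace Cfsg.Agent.Lib.Helper50.S4504

section
variable {F V : Type*} [Field F] [AddCommGroup V] [Module F V] [FiniteDimensional F V]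

/-- `D` nilpotent on a `D`-stable 3-dimensional `T`: `D³ = 0` on `T`. -/
theorem cube_zero_of_nilp (D : Module.End F V) (T : Submodule F V) (DT : ∀ x ∈ T, D x ∈ T)
    (hdim : Module.finrank F ↥T = 3) (hnil : ∃ k : ℕ, T.map (D ^ k) = ⊥) :
    ∀ a ∈ T, (D ^ 3) a = 0 := by
  obtain ⟨k, hk⟩ := hnil
  have hN : IsNilpotent (D.restrict DT) := by
    refine ⟨k, ?_⟩
    ext x
    rw [Module.End.pow_restrict k DT, LinearMap.restrict_apply]
    have : (D ^ k) (x : V) ∈ T.map (D ^ k) := Submodule.mem_map_of_mem x.2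
    rw [hk, Submodule.mem_bot] at this
    simpa using this
  have h1 := hN.charpoly_eq_X_pow_finrank
  have h2 := LinearMap.aeval_self_charpoly (D.restrict DT)
  rw [h1, hdim, map_pow, Polynomial.aeval_X] at h2
  intro a ha
  have h3 := LinearMap.congr_fun h2 ⟨a, ha⟩
  rw [Module.End.pow_restrict 3 DT, LinearMap.restrict_apply] at h3
  simpa using congrArg Subtype.val h3

/-- a nilpotent `D` on a 3-dimensional stable `T` with one-dimensional kernel has `D² ≠ 0` on `T` -/
theorem exists_sq_ne_zero (D : Module.End F V) (T : Submodule F V) (DT : ∀ x ∈ T, D x ∈ T)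
    (hdim : Module.finrank F ↥T = 3) (hker : Module.finrank F ↥(LinearMap.ker D ⊓ T) = 1) :
    ∃ t ∈ T, D (D t) ≠ 0 := by
  by_contra hcon
  push Not at hcon
  have hrk := LinearMap.finrank_range_add_finrank_ker (D.domRestrict T)
  have h1 : LinearMap.range (D.domRestrict T) ≤ LinearMap.ker D ⊓ T := by
    rintro _ ⟨x, rfl⟩
    refine Submodule.mem_inf.mpr ⟨?_, DT x x.2⟩
    rw [LinearMap.mem_ker]
    exact hcon x x.2
  have h2 : (LinearMap.ker (D.domRestrict T)).map T.subtype ≤ LinearMap.ker D ⊓ T := by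
    rintro _ ⟨x, hx, rfl⟩
    refine Submodule.mem_inf.mpr ⟨?_, x.2⟩
    have hx' : (D.domRestrict T) x = 0 := LinearMap.mem_ker.mp hx
    rw [LinearMap.mem_ker]
    exact hx'
  have h3 := Submodule.finrank_mono h1
  have h4 := Submodule.finrank_mono h2
  rw [Submodule.finrank_map_subtype_eq] at h4
  omega

/-- a vector orthogonal to `ker E` lies in the range of the adjoint of `E` -/
theorem mem_range_of_orth_ker (κ : LinearMap.BilinForm F V) (hκs : κ.IsSymm) (hκn : κ.Nondegenerate)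
    (E E' : Module.End F V) (hadj : ∀ a b, κ (E a) b = κ a (E' b)) (s : V)
    (hs : ∀ x, E x = 0 → κ s x = 0) : s ∈ LinearMap.range E' := by
  have h1 : κ.orthogonal (LinearMap.range E') = LinearMap.ker E := by
    ext x
    rw [LinearMap.BilinForm.mem_orthogonal_iff, LinearMap.mem_ker]
    constructor
    · intro h
      apply hκn.1 (E x)
      intro b
      rw [hadj, hκs.eq]
      exact h (E' b) ⟨b, rfl⟩
    · intro h n hn
      obtain ⟨b, rfl⟩ := hn
      rw [hκs.eq, ← hadj, h, map_zero, LinearMap.zero_apply]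
  have h2 := LinearMap.BilinForm.orthogonal_orthogonal hκn hκs.isRefl (LinearMap.range E')
  rw [h1] at h2
  rw [← h2, LinearMap.BilinForm.mem_orthogonal_iff]
  intro n hn
  rw [hκs.eq]
  exact hs n (LinearMap.mem_ker.mp hn)

theorem form_nondeg
    (κ : LinearMap.BilinForm F V) (hκs : κ.IsSymm) (hκn : κ.Nondegenerate)
    (g g' : Module.End F V) (hgg' : g * g' = 1) (hg'g : g' * g = 1)
    (hinv : ∀ a b : V, κ (g a) (g b) = κ a b)
    (T T' : Submodule F V) (hT : T.map g ≤ T) (hT' : T'.map g ≤ T') (hc : IsCompl T T')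
    (hdim : Module.finrank F ↥T = 3)
    (hker : Module.finrank F ↥(LinearMap.ker (g - 1) ⊓ T) = 1)
    (hnilT : ∃ k : ℕ, T.map ((g - 1) ^ k) = ⊥)
    (hb3 : b3 (g - 1) T' = 0) :
    ∀ a ∈ T, (∀ b ∈ T, κ a b = 0) → a = 0 := by
  obtain ⟨D, hD⟩ : ∃ D : Module.End F V, D = g - 1 := ⟨_, rfl⟩
  obtain ⟨D', hD'⟩ : ∃ D' : Module.End F V, D' = g' - 1 := ⟨_, rfl⟩
  rw [← hD] at hker hnilT hb3
  have hcomm : Commute g' D := by
    show g' * D = D * g'
    rw [hD, mul_sub, sub_mul, hg'g, hgg', mul_one, one_mul]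
  have hD'eq : D' = -(g' * D) := by
    rw [hD, hD', mul_sub, hg'g, mul_one]; abel
  have hD'2 : D' ^ 2 = g' ^ 2 * D ^ 2 := by
    rw [hD'eq, neg_sq, hcomm.mul_pow]
  have hD'3 : D' ^ 3 = -(g' ^ 3 * D ^ 3) := by
    rw [hD'eq, Odd.neg_pow (by decide), hcomm.mul_pow]
  have hD'3b : D' ^ 3 = D ^ 3 * (-(g' ^ 3)) := by
    rw [hD'3, (hcomm.pow_pow 3 3).eq, mul_neg]
  have hadj : ∀ a b, κ (D a) b = κ a (D' b) := by
    intro a b
    have h1 : κ (g a) b = κ a (g' b) := by
      have hb : b = g (g' b) := by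
        rw [← Module.End.mul_apply, hgg', Module.End.one_apply]
      conv_lhs => rw [hb]
      exact hinv a (g' b)
    rw [hD, hD', LinearMap.sub_apply, LinearMap.sub_apply, Module.End.one_apply, Module.End.one_apply,
      map_sub, LinearMap.sub_apply, map_sub, h1]
  have hadj' : ∀ a b, κ (D' a) b = κ a (D b) := by
    intro a b
    rw [hκs.eq, ← hadj, hκs.eq]
  have hadj3 : ∀ a b, κ ((D ^ 3) a) b = κ a ((D' ^ 3) b) := by
    intro a b
    simp only [pow_succ, pow_zero, one_mul, Module.End.mul_apply]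
    rw [hadj, hadj, hadj]
  have hadj3' : ∀ a b, κ ((D' ^ 3) a) b = κ a ((D ^ 3) b) := by
    intro a b
    simp only [pow_succ, pow_zero, one_mul, Module.End.mul_apply]
    rw [hadj', hadj', hadj']
  have hadj2 : ∀ a b, κ ((D ^ 2) a) b = κ a ((D' ^ 2) b) := by
    intro a b
    simp only [pow_succ, pow_zero, one_mul, Module.End.mul_apply]
    rw [hadj, hadj]
  -- stability
  have DT : ∀ x ∈ T, D x ∈ T := fun x hx => by
    rw [hD, LinearMap.sub_apply, Module.End.one_apply]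
    exact T.sub_mem (hT (Submodule.mem_map_of_mem hx)) hx
  have DT' : ∀ x ∈ T', D x ∈ T' := fun x hx => by
    rw [hD, LinearMap.sub_apply, Module.End.one_apply]
    exact T'.sub_mem (hT' (Submodule.mem_map_of_mem hx)) hx
  have g'T : ∀ b ∈ T, g' b ∈ T := by
    have hinj : Function.Injective g := by
      intro x y hxy
      have := congrArg g' hxy
      rwa [← Module.End.mul_apply, ← Module.End.mul_apply, hg'g] at this
    have heq : T.map g = T := by
      apply Submodule.eq_of_le_of_finrank_eq hT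
      exact (LinearEquiv.finrank_eq (Submodule.equivMapOfInjective g hinj T)).symm
    intro b hb
    rw [← heq] at hb
    obtain ⟨c, hc, rfl⟩ := hb
    rw [← Module.End.mul_apply, hg'g]
    exact hc
  have D'T : ∀ b ∈ T, D' b ∈ T := fun b hb => by
    rw [hD', LinearMap.sub_apply, Module.End.one_apply]
    exact T.sub_mem (g'T b hb) hb
  have D3T' : ∀ x ∈ T', (D ^ 3) x ∈ T' := Module.End.pow_apply_mem_of_forall_mem 3 DT'
  -- the block structure of `T`
  have hcube := cube_zero_of_nilp D T DT hdim hnilT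
  obtain ⟨t, ht, hst⟩ := exists_sq_ne_zero D T DT hdim hker
  have hcube' : ∀ a ∈ T, D (D (D a)) = 0 := by
    intro a ha
    have := hcube a ha
    simpa only [pow_succ, pow_zero, one_mul, Module.End.mul_apply] using this
  obtain ⟨s, hs⟩ : ∃ s : V, s = D (D t) := ⟨_, rfl⟩
  have hsT : s ∈ T := hs ▸ DT _ (DT _ ht)
  have hsker : D s = 0 := hs ▸ hcube' t ht
  have hs0 : s ≠ 0 := hs ▸ hst
  have hsmem : s ∈ LinearMap.ker D ⊓ T := Submodule.mem_inf.mpr ⟨LinearMap.mem_ker.mpr hsker, hsT⟩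
  intro a haT harad
  by_contra ha0
  have hradD : ∀ r ∈ T, (∀ b ∈ T, κ r b = 0) → (∀ b ∈ T, κ (D r) b = 0) := by
    intro r _ h b hb
    rw [hadj]
    exact h _ (D'T b hb)
  obtain ⟨r, hrT, hrrad, hr0, hDr⟩ : ∃ r ∈ T, (∀ b ∈ T, κ r b = 0) ∧ r ≠ 0 ∧ D r = 0 := by
    by_cases h1 : D a = 0
    · exact ⟨a, haT, harad, ha0, h1⟩
    · by_cases h2 : D (D a) = 0
      · exact ⟨D a, DT a haT, hradD a haT harad, h1, h2⟩
      · exact ⟨D (D a), DT _ (DT a haT), hradD _ (DT a haT) (hradD a haT harad), h2, hcube' a haT⟩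
  have hsrad : ∀ b ∈ T, κ s b = 0 := by
    have hrmem : r ∈ LinearMap.ker D ⊓ T := Submodule.mem_inf.mpr ⟨LinearMap.mem_ker.mpr hDr, hrT⟩
    have hr0' : (⟨r, hrmem⟩ : ↥(LinearMap.ker D ⊓ T)) ≠ 0 := by
      intro h
      exact hr0 (congrArg Subtype.val h)
    obtain ⟨c, hc⟩ := (finrank_eq_one_iff_of_nonzero' (⟨r, hrmem⟩ : ↥(LinearMap.ker D ⊓ T)) hr0').mp hker
      ⟨s, hsmem⟩
    have hc' : c • r = s := congrArg Subtype.val hc
    intro b hb
    rw [← hc', map_smul, LinearMap.smul_apply, hrrad b hb, smul_zero]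
  -- `s` is orthogonal to `ker D³`
  have hle32 : T'.map (D ^ 3) ≤ T'.map (D ^ 2) := by
    rintro _ ⟨x, hx, rfl⟩
    refine ⟨D x, DT' x hx, ?_⟩
    rw [← Module.End.mul_apply, ← pow_succ]
  have heq : LinearMap.ker D ⊓ T'.map (D ^ 3) = LinearMap.ker D ⊓ T'.map (D ^ 2) := by
    apply Submodule.eq_of_le_of_finrank_le (inf_le_inf_left _ hle32)
    unfold b3 at hb3
    omega
  have hD'3t : (D' ^ 3) t = 0 := by
    rw [hD'3, LinearMap.neg_apply, Module.End.mul_apply, hcube t ht, map_zero, neg_zero]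
  have hsorth : ∀ x, (D ^ 3) x = 0 → κ s x = 0 := by
    intro x hx
    obtain ⟨a1, ha1, a2, ha2, rfl⟩ : ∃ a1 ∈ T, ∃ a2 ∈ T', a1 + a2 = x := by
      have : x ∈ T ⊔ T' := by rw [hc.sup_eq_top]; trivial
      exact Submodule.mem_sup.mp this
    rw [map_add, hsrad a1 ha1, zero_add]
    have h3 : (D ^ 3) a2 = 0 := by
      rw [map_add, hcube a1 ha1, zero_add] at hx
      exact hx
    have hmem2 : (D ^ 2) a2 ∈ LinearMap.ker D ⊓ T'.map (D ^ 2) := by
      refine Submodule.mem_inf.mpr ⟨?_, Submodule.mem_map_of_mem ha2⟩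
      rw [LinearMap.mem_ker, ← Module.End.mul_apply, ← pow_succ']
      exact h3
    rw [← heq] at hmem2
    obtain ⟨c', _, hc'eq⟩ := (Submodule.mem_inf.mp hmem2).2
    have hsq : s = (D ^ 2) t := by
      rw [hs]; simp only [pow_succ, pow_zero, one_mul, Module.End.mul_apply]
    rw [hsq, hadj2, hD'2, Module.End.mul_apply, ← hc'eq, ← Module.End.mul_apply, (hcomm.pow_pow 2 3).eq,
      Module.End.mul_apply, ← hadj3', hD'3t, map_zero, LinearMap.zero_apply]
  have hsrange := mem_range_of_orth_ker κ hκs hκn (D ^ 3) (D' ^ 3) hadj3 s hsorth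
  obtain ⟨y, hy⟩ := hsrange
  rw [hD'3b, Module.End.mul_apply] at hy
  obtain ⟨w1, hw1, w2, hw2, hw⟩ : ∃ w1 ∈ T, ∃ w2 ∈ T', w1 + w2 = (-(g' ^ 3)) y := by
    have : (-(g' ^ 3)) y ∈ T ⊔ T' := by rw [hc.sup_eq_top]; trivial
    exact Submodule.mem_sup.mp this
  rw [← hw, map_add, hcube w1 hw1, zero_add] at hy
  have hsT' : s ∈ T' := hy ▸ D3T' w2 hw2
  have : s ∈ T ⊓ T' := Submodule.mem_inf.mpr ⟨hsT, hsT'⟩
  rw [hc.inf_eq_bot, Submodule.mem_bot] at this
  exact hs0 this

end

end Cfsg.Agent.Lib.Helper50.S4504
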