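/-
helper50: project S4504 (helper79), module S4504-[B-GREEN]: an indecomposable module of a group with Sylow
`p`-subgroup `P` of order `p`, on which a generator `x` of `P` satisfies `(x - 1)^(p-1) = 0`, stays
indecomposable on restriction to `N_G(P)` (relative trace argument).
-/
import Mathlib
import Cfsg.Prelude.Def_Blocks
import Cfsg.Prelude.Def_Classical
import Cfsg.Agent.Lib.Helper79.ModP.Defs
import Cfsg.Agent.Lib.Helper50.S4504.BFit
import Cfsg.Agent.Lib.Helper50.S4504.BGreenAux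

set_option autoImplicit false
set_option linter.unusedSectionVars false

open Cfsg Cfsg.Agent.Lib.Helper79.ModP

universe u

namespace Cfsg.Agent.Lib.Helper50.S4504

section
variable {F G V : Type*} [Field F] [Group G] [Finite G] [AddCommGroup V] [Module F V]
  {p : ℕ} [Fact p.Prime]

/-- a representative `g` with `g • P = Q` -/
noncomputable def sylRep (P Q : Sylow p G) : G :=
  Classical.choose (MulAction.exists_smul_eq G P Q)

theorem sylRep_smul (P Q : Sylow p G) : sylRep P Q • P = Q :=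
  Classical.choose_spec (MulAction.exists_smul_eq G P Q)

/-- conjugate of an endomorphism -/
def conjEnd (ρ : Representation F G V) (g : G) (α : Module.End F V) : Module.End F V :=
  ρ g * α * ρ g⁻¹

theorem rho_mul_inv (ρ : Representation F G V) (g : G) : ρ g * ρ g⁻¹ = 1 := by
  rw [← map_mul, mul_inv_cancel, map_one]

theorem rho_inv_mul (ρ : Representation F G V) (g : G) : ρ g⁻¹ * ρ g = 1 := by
  rw [← map_mul, inv_mul_cancel, map_one]

theorem conjEnd_mul (ρ : Representation F G V) (g h : G) (α : Module.End F V) :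
    conjEnd ρ (g * h) α = ρ g * conjEnd ρ h α * ρ g⁻¹ := by
  unfold conjEnd
  rw [map_mul, mul_inv_rev, map_mul]
  simp only [mul_assoc]

theorem conjEnd_eq_of_smul_eq (ρ : Representation F G V) (P : Sylow p G) (α : Module.End F V)
    (hα : ∀ n : G, n ∈ Subgroup.normalizer ((P : Subgroup G) : Set G) → α * ρ n = ρ n * α)
    {g₁ g₂ : G} (h : g₁ • P = g₂ • P) : conjEnd ρ g₁ α = conjEnd ρ g₂ α := by
  have hn : (g₂⁻¹ * g₁) • P = P := by
    rw [mul_smul, h, inv_smul_smul]
  have hn' : g₂⁻¹ * g₁ ∈ Subgroup.normalizer ((P : Subgroup G) : Set G) :=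
    Sylow.smul_eq_iff_mem_normalizer.mp hn
  have hg : g₁ = g₂ * (g₂⁻¹ * g₁) := by group
  rw [hg, conjEnd_mul]
  have : conjEnd ρ (g₂⁻¹ * g₁) α = α := by
    unfold conjEnd
    rw [← hα _ hn', mul_assoc, rho_mul_inv, mul_one]
  rw [this]
  rfl

/-- the relative trace from `N_G(P)` to `G`, indexed by the Sylow `p`-subgroups -/
noncomputable def relTr [Fintype (Sylow p G)] (ρ : Representation F G V) (P : Sylow p G)
    (α : Module.End F V) : Module.End F V :=
  ∑ Q : Sylow p G, conjEnd ρ (sylRep P Q) α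

theorem relTr_add [Fintype (Sylow p G)] (ρ : Representation F G V) (P : Sylow p G)
    (α β : Module.End F V) : relTr ρ P (α + β) = relTr ρ P α + relTr ρ P β := by
  unfold relTr conjEnd
  rw [← Finset.sum_add_distrib]
  refine Finset.sum_congr rfl (fun Q _ => ?_)
  rw [mul_add, add_mul]

theorem relTr_smul_one [Fintype (Sylow p G)] (ρ : Representation F G V) (P : Sylow p G) (c : F) :
    relTr ρ P (c • (1 : Module.End F V)) = (c * (Fintype.card (Sylow p G) : F)) • (1 : Module.End F V) := by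
  unfold relTr conjEnd
  have : ∀ Q : Sylow p G, ρ (sylRep P Q) * (c • (1 : Module.End F V)) * ρ (sylRep P Q)⁻¹ =
      c • (1 : Module.End F V) := by
    intro Q
    rw [mul_smul_comm, mul_one, smul_mul_assoc, rho_mul_inv]
  rw [Finset.sum_congr rfl (fun Q _ => this Q), Finset.sum_const, Finset.card_univ, ← Nat.cast_smul_eq_nsmul F,
    smul_smul, mul_comm]

theorem relTr_comm [Fintype (Sylow p G)] (ρ : Representation F G V) (P : Sylow p G)
    (α : Module.End F V)
    (hα : ∀ n : G, n ∈ Subgroup.normalizer ((P : Subgroup G) : Set G) → α * ρ n = ρ n * α) (h : G) :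
    relTr ρ P α * ρ h = ρ h * relTr ρ P α := by
  have h1 : ρ h * relTr ρ P α * ρ h⁻¹ = relTr ρ P α := by
    unfold relTr
    rw [Finset.mul_sum, Finset.sum_mul]
    have h2 : ∀ Q : Sylow p G, ρ h * conjEnd ρ (sylRep P Q) α * ρ h⁻¹ =
        conjEnd ρ (sylRep P (h • Q)) α := by
      intro Q
      rw [← conjEnd_mul]
      apply conjEnd_eq_of_smul_eq ρ P α hα
      rw [mul_smul, sylRep_smul, sylRep_smul]
    rw [Finset.sum_congr rfl (fun Q _ => h2 Q)]
    exact Fintype.sum_equiv (MulAction.toPerm h) _ _ (fun Q => rfl)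
  calc relTr ρ P α * ρ h = (ρ h * relTr ρ P α * ρ h⁻¹) * ρ h := by rw [h1]
    _ = ρ h * relTr ρ P α := by rw [mul_assoc, rho_inv_mul, mul_one]

/-- a nonzero fixed vector of a unipotent map in a nonzero stable subspace -/
theorem exists_fixed_ne_zero (t : Module.End F V) (m : ℕ) (ht : (t - 1) ^ m = 0)
    (B : Submodule F V) (hB : B ≠ ⊥) (htB : ∀ v ∈ B, t v ∈ B) :
    ∃ v ∈ B, v ≠ 0 ∧ t v = v := by
  classical
  obtain ⟨b, hbB, hb0⟩ := Submodule.exists_mem_ne_zero_of_ne_bot hB
  have hEB : ∀ v ∈ B, (t - 1) v ∈ B := fun v hv => by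
    rw [LinearMap.sub_apply, Module.End.one_apply]
    exact B.sub_mem (htB v hv) hv
  have hex : ∃ k : ℕ, ((t - 1) ^ k) b = 0 := ⟨m, by rw [ht, LinearMap.zero_apply]⟩
  have hk0 : Nat.find hex ≠ 0 := by
    intro h0
    have := Nat.find_spec hex
    rw [h0, pow_zero, Module.End.one_apply] at this
    exact hb0 this
  obtain ⟨j, hj⟩ : ∃ j, Nat.find hex = j + 1 := ⟨Nat.find hex - 1, by omega⟩
  refine ⟨((t - 1) ^ j) b, Module.End.pow_apply_mem_of_forall_mem j hEB b hbB, ?_, ?_⟩
  · exact Nat.find_min hex (by omega)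
  · have h1 := Nat.find_spec hex
    rw [hj, pow_succ', Module.End.mul_apply, LinearMap.sub_apply, Module.End.one_apply, sub_eq_zero] at h1
    exact h1

/-- a vector fixed by `ρ g` is fixed by `ρ g⁻¹` -/
theorem fixed_inv (ρ : Representation F G V) (g : G) (v : V) (h : ρ g v = v) : ρ g⁻¹ v = v := by
  have := congrArg (ρ g⁻¹) h
  rw [← Module.End.mul_apply, rho_inv_mul, Module.End.one_apply] at this
  exact this.symm

theorem fixed_pow (ρ : Representation F G V) (g : G) (v : V) (h : ρ g v = v) (i : ℕ) :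
    ρ (g ^ i) v = v := by
  induction i with
  | zero => rw [pow_zero, map_one, Module.End.one_apply]
  | succ i ih => rw [pow_succ, map_mul, Module.End.mul_apply, h, ih]

theorem zpowers_eq_of_card_prime (P : Sylow p G) (hP : Nat.card P = p) (y : G)
    (hy : y ∈ (P : Subgroup G)) (hy1 : y ≠ 1) :
    Subgroup.zpowers y = (P : Subgroup G) ∧ orderOf y = p := by
  have hp : p.Prime := Fact.out
  have hoy : orderOf y = p := by
    have hdvd : orderOf y ∣ p := by
      have h1 : orderOf (⟨y, hy⟩ : (P : Subgroup G)) ∣ Nat.card (P : Subgroup G) := orderOf_dvd_natCard _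
      rw [hP, Subgroup.orderOf_mk] at h1
      exact h1
    rcases (Nat.dvd_prime hp).mp hdvd with h | h
    · exact absurd (orderOf_eq_one_iff.mp h) hy1
    · exact h
  refine ⟨?_, hoy⟩
  apply Subgroup.eq_of_le_of_card_ge (Subgroup.zpowers_le.mpr hy)
  rw [Nat.card_zpowers, hoy, hP]

theorem relTr_apply_fixed [Fintype (Sylow p G)] [CharP F p] (ρ : Representation F G V)
    (P : Sylow p G) (hP : Nat.card P = p) (x : G) (hx : x ∈ (P : Subgroup G)) (hx1 : x ≠ 1)
    (hnil : (ρ x - 1) ^ (p - 1) = 0) (α : Module.End F V)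
    (hα : ∀ n : G, n ∈ Subgroup.normalizer ((P : Subgroup G) : Set G) → α * ρ n = ρ n * α)
    (v : V) (hv : ρ x v = v) :
    relTr ρ P α v = α v := by
  classical
  let _ : Fintype (Subgroup.zpowers x) := Fintype.ofFinite _
  obtain ⟨hzP, hox⟩ := zpowers_eq_of_card_prime P hP x hx hx1
  obtain ⟨ψ, hψ⟩ : ∃ ψ : Sylow p G → V, ψ = fun Q => conjEnd ρ (sylRep P Q) α v := ⟨_, rfl⟩
  have hsum : relTr ρ P α v = ∑ Q, ψ Q := by
    unfold relTr
    rw [LinearMap.sum_apply, hψ]
  have hequiv : ∀ (g : G), ρ g v = v → ∀ Q : Sylow p G, ψ (g • Q) = ρ g (ψ Q) := by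
    intro g hg Q
    have h1 : conjEnd ρ (sylRep P (g • Q)) α = conjEnd ρ (g * sylRep P Q) α := by
      apply conjEnd_eq_of_smul_eq ρ P α hα
      rw [mul_smul, sylRep_smul, sylRep_smul]
    rw [hψ]
    show conjEnd ρ (sylRep P (g • Q)) α v = ρ g (conjEnd ρ (sylRep P Q) α v)
    rw [h1, conjEnd_mul, Module.End.mul_apply, Module.End.mul_apply, fixed_inv ρ g v hg]
  rw [hsum]
  have key := sum_eq_of_free_off_fixed (H := Subgroup.zpowers x) ψ P ?_ ?_ ?_
  · rw [key, hψ]
    show conjEnd ρ (sylRep P P) α v = α v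
    have h1 : conjEnd ρ (sylRep P P) α = conjEnd ρ 1 α := by
      apply conjEnd_eq_of_smul_eq ρ P α hα
      rw [sylRep_smul, one_smul]
    rw [h1]
    unfold conjEnd
    simp
  · intro y
    have hyP : (y : G) ∈ (P : Subgroup G) := hzP ▸ y.2
    show (y : G) • P = P
    exact Sylow.smul_eq_iff_mem_normalizer.mpr (Subgroup.le_normalizer hyP)
  · intro Q hQ y hyQ
    by_contra hy1
    have hyP : (y : G) ∈ (P : Subgroup G) := hzP ▸ y.2
    have hyQ' : (y : G) • Q = Q := hyQ
    have hyN : (y : G) ∈ Subgroup.normalizer ((Q : Subgroup G) : Set G) :=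
      Sylow.smul_eq_iff_mem_normalizer.mp hyQ'
    have hpg : IsPGroup p (Subgroup.zpowers (y : G)) := P.2.to_le (Subgroup.zpowers_le.mpr hyP)
    have hinf := hpg.inf_normalizer_sylow (Q := Q)
    have hymem : (y : G) ∈ Subgroup.zpowers (y : G) ⊓ (Q : Subgroup G) :=
      hinf.le (Subgroup.mem_inf.mpr ⟨Subgroup.mem_zpowers _, hyN⟩)
    have hyQmem : (y : G) ∈ (Q : Subgroup G) := (Subgroup.mem_inf.mp hymem).2
    have hy1' : (y : G) ≠ 1 := fun h => hy1 (Subtype.ext h)
    obtain ⟨hzy, -⟩ := zpowers_eq_of_card_prime P hP (y : G) hyP hy1'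
    have hPQ : (P : Subgroup G) ≤ Q := hzy ▸ Subgroup.zpowers_le.mpr hyQmem
    have := P.3 Q.2 hPQ
    exact hQ (Sylow.ext this)
  · intro Q _
    have h1 := sum_zpowers_eq x (isOfFinOrder_of_finite x) (fun g : G => ψ (g • Q))
    rw [hox] at h1
    refine Eq.trans h1 ?_
    have h2 : ∀ i ∈ Finset.range p, ψ ((x ^ i) • Q) = ((ρ x) ^ i) (ψ Q) := by
      intro i _
      rw [hequiv (x ^ i) (fixed_pow ρ x v hv i) Q, map_pow]
    rw [Finset.sum_congr rfl h2, ← LinearMap.sum_apply, geom_sum_end_eq_pow_char p (ρ x), hnil,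
      LinearMap.zero_apply]

omit [Finite G] in
/-- the two projections of a direct decomposition -/
theorem proj_facts (A B : Submodule F V) (h : IsCompl A B) :
    ∃ πA πB : Module.End F V, πA + πB = 1 ∧ (∀ b ∈ B, πA b = 0) ∧ (∀ a ∈ A, πB a = 0) ∧
      (∀ v, πA v ∈ A) ∧ (∀ v, πB v ∈ B) := by
  refine ⟨A.projection B h, B.projection A h.symm, ?_, ?_, ?_, ?_, ?_⟩
  · ext v
    rw [LinearMap.add_apply, Module.End.one_apply]
    exact Submodule.projection_add_projection_eq_self h v
  · intro b hb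
    have := Submodule.projectionOnto_apply_right h ⟨b, hb⟩
    rw [Submodule.projection_apply, this]; rfl
  · intro a ha
    have := Submodule.projectionOnto_apply_right h.symm ⟨a, ha⟩
    rw [Submodule.projection_apply, this]; rfl
  · intro v
    exact Submodule.projection_apply_mem h v
  · intro v
    exact Submodule.projection_apply_mem h.symm v

omit [Finite G] in
/-- a projection of a decomposition into `f`-stable summands commutes with `f` -/
theorem proj_commute (A B : Submodule F V) (πA πB : Module.End F V) (hsum : πA + πB = 1)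
    (hAB0 : ∀ b ∈ B, πA b = 0) (hBA0 : ∀ a ∈ A, πB a = 0) (hAmem : ∀ v, πA v ∈ A)
    (hBmem : ∀ v, πB v ∈ B) (f : Module.End F V) (hfA : ∀ a ∈ A, f a ∈ A) (hfB : ∀ b ∈ B, f b ∈ B) :
    πA * f = f * πA := by
  have hid : ∀ w ∈ A, πA w = w := by
    intro w hw
    have := LinearMap.congr_fun hsum w
    rw [LinearMap.add_apply, hBA0 w hw, add_zero, Module.End.one_apply] at this
    exact this
  ext v
  rw [Module.End.mul_apply, Module.End.mul_apply]
  have hv : v = πA v + πB v := by
    have := LinearMap.congr_fun hsum v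
    rw [LinearMap.add_apply, Module.End.one_apply] at this
    exact this.symm
  conv_lhs => rw [hv]
  rw [map_add, map_add, hAB0 _ (hfB _ (hBmem v)), add_zero, hid _ (hfA _ (hAmem v))]

end

theorem green_indec {F G V : Type*} [Field F] [Group G] [Finite G] [AddCommGroup V] [Module F V]
    [FiniteDimensional F V] {p : ℕ} [Fact p.Prime] [CharP F p] (P : Sylow p G)
    (hP : Nat.card P = p) (x : G) (hx : x ∈ (P : Subgroup G)) (hx1 : x ≠ 1)
    (ρ : Representation F G V) (hind : Indec ρ) (hnil : (ρ x - 1) ^ (p - 1) = 0) :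
    Indec (ρ.comp (Subgroup.normalizer ((P : Subgroup G) : Set G)).subtype) := by
  classical
  let _ : Fintype (Sylow p G) := Fintype.ofFinite _
  refine ⟨hind.1, ?_⟩
  intro A B hA hB hAB
  by_contra hne
  push Not at hne
  obtain ⟨hA0, hB0⟩ := hne
  have hA' : ∀ n : G, n ∈ Subgroup.normalizer ((P : Subgroup G) : Set G) → ∀ v ∈ A, ρ n v ∈ A :=
    fun n hn v hv => hA ⟨n, hn⟩ v hv
  have hB' : ∀ n : G, n ∈ Subgroup.normalizer ((P : Subgroup G) : Set G) → ∀ v ∈ B, ρ n v ∈ B :=
    fun n hn v hv => hB ⟨n, hn⟩ v hv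
  have hxN : x ∈ Subgroup.normalizer ((P : Subgroup G) : Set G) := Subgroup.le_normalizer hx
  obtain ⟨πA, πB, hsum, hAB0, hBA0, hAmem, hBmem⟩ := proj_facts A B hAB
  have hsum' : πB + πA = 1 := by rw [add_comm]; exact hsum
  have hπA : ∀ n : G, n ∈ Subgroup.normalizer ((P : Subgroup G) : Set G) → πA * ρ n = ρ n * πA :=
    fun n hn => proj_commute A B πA πB hsum hAB0 hBA0 hAmem hBmem (ρ n) (hA' n hn) (hB' n hn)
  have hπB : ∀ n : G, n ∈ Subgroup.normalizer ((P : Subgroup G) : Set G) → πB * ρ n = ρ n * πB :=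
    fun n hn => proj_commute B A πB πA hsum' hBA0 hAB0 hBmem hAmem (ρ n) (hB' n hn) (hA' n hn)
  obtain ⟨c, hc⟩ : ∃ c : F, c = ((Fintype.card (Sylow p G) : F))⁻¹ := ⟨_, rfl⟩
  have hcard : (Fintype.card (Sylow p G) : F) ≠ 0 := by
    intro h
    rw [CharP.cast_eq_zero_iff F p] at h
    have := not_dvd_card_sylow p G
    rw [Nat.card_eq_fintype_card] at this
    exact this h
  have hcA : ∀ n : G, n ∈ Subgroup.normalizer ((P : Subgroup G) : Set G) →
      (c • πA) * ρ n = ρ n * (c • πA) := by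
    intro n hn
    rw [smul_mul_assoc, hπA n hn, mul_smul_comm]
  have hcB : ∀ n : G, n ∈ Subgroup.normalizer ((P : Subgroup G) : Set G) →
      (c • πB) * ρ n = ρ n * (c • πB) := by
    intro n hn
    rw [smul_mul_assoc, hπB n hn, mul_smul_comm]
  have hτ : relTr ρ P (c • πA) + relTr ρ P (c • πB) = 1 := by
    rw [← relTr_add, ← smul_add, hsum, relTr_smul_one, hc, inv_mul_cancel₀ hcard, one_smul]
  have hcommA : ∀ g : G, relTr ρ P (c • πA) ∘ₗ ρ g = ρ g ∘ₗ relTr ρ P (c • πA) :=
    fun g => relTr_comm ρ P _ hcA g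
  rcases indec_isUnit_or hind (relTr ρ P (c • πA)) (relTr ρ P (c • πB)) hcommA hτ with hu | hu
  · obtain ⟨v, hvB, hv0, hvx⟩ := exists_fixed_ne_zero (ρ x) (p - 1) hnil B hB0 (hB' x hxN)
    have h1 := relTr_apply_fixed ρ P hP x hx hx1 hnil (c • πA) hcA v hvx
    rw [LinearMap.smul_apply, hAB0 v hvB, smul_zero] at h1
    have hinj : Function.Injective (relTr ρ P (c • πA)) := ((Module.End.isUnit_iff _).mp hu).injective
    exact hv0 (hinj (h1.trans (map_zero _).symm))
  · obtain ⟨v, hvA, hv0, hvx⟩ := exists_fixed_ne_zero (ρ x) (p - 1) hnil A hA0 (hA' x hxN)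
    have h1 := relTr_apply_fixed ρ P hP x hx hx1 hnil (c • πB) hcB v hvx
    rw [LinearMap.smul_apply, hBA0 v hvA, smul_zero] at h1
    have hinj : Function.Injective (relTr ρ P (c • πB)) := ((Module.End.isUnit_iff _).mp hu).injective
    exact hv0 (hinj (h1.trans (map_zero _).symm))

end Cfsg.Agent.Lib.Helper50.S4504
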