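/-
helper50: project S4504 (helper79), auxiliary lemmas for module S4504-[B-GREEN].
-/
import Mathlib

set_option autoImplicit false

namespace Cfsg.Agent.Lib.Helper50.S4504

open Polynomial in
/-- `1 + X + ⋯ + X^(p-1) = (X - 1)^(p-1)` in characteristic `p` -/
theorem geom_sum_X_eq_pow_char (F : Type*) [Field F] (p : ℕ) [hp : Fact p.Prime] [CharP F p] :
    (∑ i ∈ Finset.range p, (X : F[X]) ^ i) = (X - 1) ^ (p - 1) := by
  have h1 : (∑ i ∈ Finset.range p, (X : F[X]) ^ i) * (X - 1) = X ^ p - 1 := geom_sum_mul X p
  have h2 : ((X : F[X]) - 1) ^ p = X ^ p - 1 := by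
    have := sub_pow_char (X : F[X]) 1 (p := p)
    rw [one_pow] at this
    exact this
  have h3 : ((X : F[X]) - 1) ^ (p - 1) * (X - 1) = X ^ p - 1 := by
    rw [← pow_succ, Nat.sub_add_cancel hp.out.one_le, h2]
  have h4 : (X : F[X]) - 1 ≠ 0 := by
    have := Polynomial.X_sub_C_ne_zero (1 : F)
    rwa [Polynomial.C_1] at this
  exact mul_right_cancel₀ h4 (h1.trans h3.symm)

/-- the same identity for an endomorphism -/
theorem geom_sum_end_eq_pow_char {F V : Type*} [Field F] [AddCommGroup V] [Module F V] (p : ℕ)
    [Fact p.Prime] [CharP F p] (t : Module.End F V) :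
    (∑ i ∈ Finset.range p, t ^ i) = (t - 1) ^ (p - 1) := by
  have := congrArg (Polynomial.aeval t) (geom_sum_X_eq_pow_char F p)
  simpa using this

/-- sum over the cyclic group generated by `x` -/
theorem sum_zpowers_eq {G M : Type*} [Group G] [AddCommMonoid M] (x : G) (hx : IsOfFinOrder x)
    [Fintype (Subgroup.zpowers x)] (f : G → M) :
    ∑ y : Subgroup.zpowers x, f (y : G) = ∑ i ∈ Finset.range (orderOf x), f (x ^ i) := by
  rw [← Fin.sum_univ_eq_sum_range (fun i => f (x ^ i)) (orderOf x)]
  symm
  apply Fintype.sum_equiv (finEquivZPowers hx)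
  intro i
  rw [finEquivZPowers_apply]

/-- a sum over a finite set with a group action that is free off one fixed point, of a function
whose orbit sums vanish -/
theorem sum_eq_of_free_off_fixed {H X M : Type*} [Group H] [Fintype H] [MulAction H X] [Fintype X]
    [AddCommMonoid M] (ψ : X → M) (q₀ : X) (hfix : ∀ y : H, y • q₀ = q₀)
    (hfree : ∀ q : X, q ≠ q₀ → ∀ y : H, y • q = q → y = 1)
    (hzero : ∀ q : X, q ≠ q₀ → ∑ y : H, ψ (y • q) = 0) :
    ∑ q, ψ q = ψ q₀ := by
  classical
  let Ω := MulAction.orbitRel.Quotient H X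
  have hfib := Finset.sum_fiberwise (Finset.univ : Finset X)
    (fun q => (Quotient.mk'' q : Ω)) ψ
  rw [← hfib]
  rw [Finset.sum_eq_single (Quotient.mk'' q₀ : Ω)]
  · have : (Finset.univ.filter (fun q : X => (Quotient.mk'' q : Ω) = Quotient.mk'' q₀)) = {q₀} := by
      ext q
      simp only [Finset.mem_filter, Finset.mem_univ, true_and, Finset.mem_singleton]
      constructor
      · intro h
        have h' : q ∈ MulAction.orbit H q₀ := by
          rw [← MulAction.orbitRel_apply]
          exact Quotient.eq''.mp h
        obtain ⟨y, rfl⟩ := h'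
        exact hfix y
      · rintro rfl; rfl
    rw [this, Finset.sum_singleton]
  · intro ω _ hω
    obtain ⟨b, rfl⟩ : ∃ b : X, (Quotient.mk'' b : Ω) = ω := ⟨ω.out, Quotient.out_eq' ω⟩
    have hb : b ≠ q₀ := by
      rintro rfl
      exact hω rfl
    have : (Finset.univ.filter (fun q : X => (Quotient.mk'' q : Ω) = Quotient.mk'' b)) =
        Finset.univ.image (fun y : H => y • b) := by
      ext q
      simp only [Finset.mem_filter, Finset.mem_univ, true_and, Finset.mem_image]
      constructor
      · intro h
        have h' : q ∈ MulAction.orbit H b := by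
          rw [← MulAction.orbitRel_apply]
          exact Quotient.eq''.mp h
        exact h'
      · rintro ⟨y, rfl⟩
        apply Quotient.eq''.mpr
        rw [MulAction.orbitRel_apply]
        exact MulAction.mem_orbit b y
    rw [this, Finset.sum_image]
    · exact hzero b hb
    · intro y _ y' _ hyy'
      have h1 : (y'⁻¹ * y) • b = b := by
        rw [mul_smul]
        show y'⁻¹ • (y • b) = b
        have h2 : y • b = y' • b := hyy'
        rw [h2, inv_smul_smul]
      have := hfree b hb _ h1
      exact (inv_mul_eq_one.mp this).symm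
  · intro h
    exact absurd (Finset.mem_univ _) h

end Cfsg.Agent.Lib.Helper50.S4504
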