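/-
helper50: project S4504 (helper79), module S4504-[C-NOIDX].
-/
import Mathlib
import Cfsg.Prelude.Def_Blocks
import Cfsg.Prelude.Def_Classical
import Cfsg.Agent.Lib.Helper79.ModP.Defs

set_option autoImplicit false

open Cfsg Cfsg.Agent.Lib.Helper79.ModP

universe u

namespace Cfsg.Agent.Lib.Helper50.S4504

theorem no_normal_index_p {G : Type u} [Group G] [Finite G] {p : ℕ} [Fact p.Prime]
    (P : Sylow p G) (hP : Nat.card P = p)
    (hNC : Subgroup.centralizer ((P : Subgroup G) : Set G) ≠
      Subgroup.normalizer ((P : Subgroup G) : Set G)) :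
    ∀ K : Subgroup G, K.Normal → K.index ≠ p := by
  intro K hK hidx
  have hp : p.Prime := Fact.out
  apply hNC
  apply le_antisymm (Subgroup.centralizer_le_normalizer _)
  -- `G ⧸ K` is abelian
  have hcardQ : Nat.card (G ⧸ K) = p := by rw [← Subgroup.index_eq_card]; exact hidx
  have hcyc : IsCyclic (G ⧸ K) := isCyclic_of_prime_card hcardQ
  have hcomm : ∀ a b : G, a * b * a⁻¹ * b⁻¹ ∈ K := by
    intro a b
    rw [← QuotientGroup.eq_one_iff]
    have hc : ∀ x y : G ⧸ K, x * y = y * x := fun x y => hcyc.commGroup.mul_comm x y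
    simp only [QuotientGroup.mk_mul, QuotientGroup.mk_inv]
    rw [hc (a : G ⧸ K) (b : G ⧸ K)]
    group
  -- `P ⊓ K = ⊥`
  have hPK : ∀ y : G, y ∈ (P : Subgroup G) → y ∈ K → y = 1 := by
    intro y hyP hyK
    by_contra hy1
    -- `y` generates `P`
    have hyo : orderOf (⟨y, hyP⟩ : (P : Subgroup G)) = p := by
      have hdvd : orderOf (⟨y, hyP⟩ : (P : Subgroup G)) ∣ p := by
        have := orderOf_dvd_natCard (⟨y, hyP⟩ : (P : Subgroup G))
        rwa [hP] at this
      rcases (Nat.dvd_prime hp).mp hdvd with h1 | h1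
      · exfalso
        apply hy1
        have := orderOf_eq_one_iff.mp h1
        exact congrArg Subtype.val this
      · exact h1
    have hPle : (P : Subgroup G) ≤ K := by
      intro x hx
      have hgen : ∀ z : (P : Subgroup G), z ∈ Subgroup.zpowers (⟨y, hyP⟩ : (P : Subgroup G)) := by
        intro z
        have htop : Subgroup.zpowers (⟨y, hyP⟩ : (P : Subgroup G)) = ⊤ := by
          apply Subgroup.eq_top_of_card_eq
          rw [Nat.card_zpowers, hyo, hP]
        rw [htop]; trivial
      obtain ⟨k, hk⟩ := Subgroup.mem_zpowers_iff.mp (hgen ⟨x, hx⟩)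
      have hx' : x = y ^ k := by
        have := congrArg Subtype.val hk
        simpa using this.symm
      rw [hx']
      exact K.zpow_mem hyK k
    -- then `p ^ 2 ∣ |G|`
    have h1 : p ∣ Nat.card K := by
      have := Subgroup.card_dvd_of_le hPle
      rwa [hP] at this
    have h2 : p ^ 2 ∣ Nat.card G := by
      rw [← Subgroup.card_mul_index K, hidx, pow_two]
      exact Nat.mul_dvd_mul_right h1 p
    have h3 := P.pow_dvd_card_of_pow_dvd_card h2
    rw [hP] at h3
    have h4 : p ^ 2 ≤ p := Nat.le_of_dvd hp.pos h3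
    have h5 : 2 ≤ p := hp.two_le
    nlinarith
  intro n hn
  rw [Subgroup.mem_centralizer_iff]
  intro x hx
  have hxP : x ∈ (P : Subgroup G) := hx
  have h1 : n * x * n⁻¹ ∈ (P : Subgroup G) := (Subgroup.mem_normalizer_iff.mp hn x).mp hxP
  have h2 : n * x * n⁻¹ * x⁻¹ ∈ (P : Subgroup G) := (P : Subgroup G).mul_mem h1 ((P : Subgroup G).inv_mem hxP)
  have h3 := hPK _ h2 (hcomm n x)
  have h4 : n * x = x * n := by
    have : n * x * n⁻¹ * x⁻¹ * (x * n) = 1 * (x * n) := by rw [h3]
    rw [one_mul] at this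
    rw [← this]; group
  exact h4.symm

end Cfsg.Agent.Lib.Helper50.S4504
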