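/-
helper50: project S4504 (helper79), module S4504-[C-SYLBRIDGE].
-/
import Mathlib
import Cfsg.Prelude.Def_Blocks
import Cfsg.Prelude.Def_Classical
import Cfsg.Agent.Lib.Helper79.ModP.Defs

set_option autoImplicit false

open Cfsg Cfsg.Agent.Lib.Helper79.ModP

universe u

namespace Cfsg.Agent.Lib.Helper50.S4504

/-- every Sylow `p`-subgroup of `G` lies in a normal subgroup containing one of them -/
theorem sylow_le_of_normal {G : Type u} [Group G] [Finite G] {p : ℕ} [Fact p.Prime]
    (P : Sylow p G) (L : Subgroup G) [L.Normal] (hPL : (P : Subgroup G) ≤ L) (R : Sylow p G) :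
    (R : Subgroup G) ≤ L := by
  obtain ⟨g, rfl⟩ := MulAction.exists_smul_eq G P R
  intro x hx
  rw [Sylow.coe_subgroup_smul, Subgroup.mem_pointwise_smul_iff_inv_smul_mem] at hx
  have h1 : (MulAut.conj g)⁻¹ • x ∈ L := hPL hx
  rw [MulAut.smul_def, ← map_inv, MulAut.conj_apply] at h1
  have h2 := (inferInstance : L.Normal).conj_mem _ h1 g
  simpa [mul_assoc] using h2

theorem card_sylow_eq_of_normal {G : Type u} [Group G] [Finite G] {p : ℕ} [Fact p.Prime]
    (P : Sylow p G) (L : Subgroup G) [L.Normal] (hPL : (P : Subgroup G) ≤ L) :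
    Nat.card (Sylow p G) = Nat.card (Sylow p L) := by
  have hle := sylow_le_of_normal P L hPL
  let f : Sylow p G → Sylow p L := fun R => R.subtype (hle R)
  apply Nat.card_eq_of_bijective f
  constructor
  · intro R R' h
    exact Sylow.subtype_injective h
  · intro Q
    obtain ⟨R, hR⟩ := (Q.2.map L.subtype).exists_le_sylow
    refine ⟨R, ?_⟩
    symm
    apply Sylow.ext
    have h1 : (Q : Subgroup L) ≤ (R : Subgroup G).subgroupOf L := by
      intro x hx
      rw [Subgroup.mem_subgroupOf]
      exact hR (Subgroup.mem_map_of_mem _ hx)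
    have h2 : IsPGroup p ((R : Subgroup G).subgroupOf L) := (R.subtype (hle R)).2
    have h3 := Q.3 h2 h1
    rw [← h3]
    rfl

end Cfsg.Agent.Lib.Helper50.S4504
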